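import Mathlib.RingTheory.TensorProduct.Free
import Mathlib.RingTheory.Flat.Basic
import Mathlib.RingTheory.Nilpotent.Basic
import Mathlib.RingTheory.Nilpotent.Lemmas
import Mathlib.RingTheory.Ideal.Quotient.Operations
import Mathlib.LinearAlgebra.Basis.VectorSpace

/-!
# Artin's lemma for a field of invariants

If `F` is the field of elements of `L` equalised by pairs of homomorphisms `a i`, `s i : L → E i`
such that each `E i` is geometrically reduced over `L` through `s i`, then `L` is separable over `F`.
-/

set_option autoImplicit false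
set_option linter.style.haveILetI false
set_option backward.isDefEq.respectTransparency false

universe u v

open TensorProduct

namespace Groth.L24.QuotGen

theorem isReduced_tensor_of_equalizer {F L Ω : Type u} [Field F] [Field L] [Field Ω] [Algebra F L]
    [Algebra F Ω] {J : Type v} (E : J → Type u) [∀ j, CommRing (E j)] (a s : ∀ j, L →+* E j)
    (hF : ∀ j f, a j (algebraMap F L f) = s j (algebraMap F L f))
    (hgr : ∀ j (Q : Type u) [CommRing Q] [IsReduced Q] [Algebra L Q],
      letI := (s j).toAlgebra; IsReduced (E j ⊗[L] Q))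
    (hfix : ∀ l, (∀ j, a j l = s j l) → l ∈ Set.range (algebraMap F L)) :
    IsReduced (L ⊗[F] Ω) := by
  classical
  let b := Module.Basis.ofVectorSpace F Ω
  let bL := Algebra.TensorProduct.basis L b
  have hbL : ∀ i, bL i = (1 : L) ⊗ₜ[F] b i := fun i => Algebra.TensorProduct.basis_apply b i
  suffices H : ∀ n (x : L ⊗[F] Ω), (bL.repr x).support.card ≤ n → IsNilpotent x → x = 0 from
    ⟨fun x hx => H _ x le_rfl hx⟩
  intro n
  induction n using Nat.strong_induction_on with
  | h n IH =>
  intro x hcard hnil
  by_contra hx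
  obtain ⟨i0, hi0⟩ : (bL.repr x).support.Nonempty := Finsupp.support_nonempty_iff.2
    fun h => hx (bL.repr.map_eq_zero_iff.1 h)
  set S := (bL.repr x).support
  set c : _ → L := fun i => (bL.repr x i0)⁻¹ * bL.repr x i with hc
  have hc0 : c i0 = 1 := inv_mul_cancel₀ (Finsupp.mem_support_iff.1 hi0)
  set y := (bL.repr x i0)⁻¹ • x with hy
  have hynil : IsNilpotent y := IsNilpotent.smul hnil _
  have hyeq : y = ∑ i ∈ S, c i ⊗ₜ[F] b i := by
    have hxs : x = ∑ i ∈ S, bL.repr x i • bL i := (bL.linearCombination_repr x).symm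
    rw [hy]
    conv_lhs => arg 2; rw [hxs]
    rw [Finset.smul_sum]
    refine Finset.sum_congr rfl fun i _ => ?_
    rw [hbL, smul_smul, TensorProduct.smul_tmul', smul_eq_mul, mul_one]
  -- the minimality gives independence modulo nilpotents
  let Q := (L ⊗[F] Ω) ⧸ nilradical (L ⊗[F] Ω)
  haveI : IsReduced Q := (RingHom.ker_isRadical_iff_reduced_of_surjective (f := Ideal.Quotient.mk (nilradical (L ⊗[F] Ω))) Ideal.Quotient.mk_surjective).1 (by
    rw [Ideal.mk_ker]; exact Ideal.radical_isRadical _)
  let S' := S.erase i0
  let v : S' → Q := fun i => Ideal.Quotient.mk _ (bL i)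
  have hv : LinearIndependent L v := by
    rw [Fintype.linearIndependent_iff]
    intro g hg
    have hnil' : IsNilpotent (∑ i : S', g i • bL i) := by
      rw [← mem_nilradical, ← Ideal.Quotient.eq_zero_iff_mem, map_sum]
      refine Eq.trans (Finset.sum_congr rfl fun i _ => ?_) hg
      exact map_smul (Ideal.Quotient.mkₐ L (nilradical (L ⊗[F] Ω))) _ _
    have hsupp : (bL.repr (∑ i : S', g i • bL i)).support ⊆ S' := by
      intro k hk
      by_contra hkS
      refine Finsupp.mem_support_iff.1 hk ?_
      rw [map_sum, Finsupp.finsetSum_apply]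
      refine Finset.sum_eq_zero fun i _ => ?_
      rw [map_smul, bL.repr_self, Finsupp.smul_apply, Finsupp.single_apply, if_neg, smul_zero]
      rintro rfl
      exact hkS i.2
    have h0 := IH S'.card (lt_of_lt_of_le (Finset.card_erase_lt_of_mem hi0) hcard) _
      (Finset.card_le_card hsupp) hnil'
    exact Fintype.linearIndependent_iff.1
      (bL.linearIndependent.comp (fun i : S' => (i : _)) Subtype.val_injective) g h0
  obtain ⟨f, hf⟩ := (Finsupp.linearCombination L v).exists_leftInverse_of_injective
    (LinearMap.ker_eq_bot.2 hv)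
  have hfv : ∀ i, f (v i) = Finsupp.single i 1 := fun i => by
    have := LinearMap.congr_fun hf (Finsupp.single i 1)
    rwa [LinearMap.comp_apply, Finsupp.linearCombination_single, one_smul] at this
  -- all coefficients are equalised
  have hcF : ∀ i ∈ S, c i ∈ Set.range (algebraMap F L) := by
    intro i hi
    refine hfix _ fun j => ?_
    by_cases hii : i = i0
    · rw [hii, hc0, map_one, map_one]
    letI : Algebra L (E j) := (s j).toAlgebra
    letI : Algebra F (E j) := ((s j).comp (algebraMap F L)).toAlgebra
    haveI : IsScalarTower F L (E j) := IsScalarTower.of_algebraMap_eq fun _ => rfl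
    let Sg : L →ₐ[F] E j := IsScalarTower.toAlgHom F L (E j)
    let A : L →ₐ[F] E j := { toRingHom := a j, commutes' := fun r => hF j r }
    let mA := Algebra.TensorProduct.map A (AlgHom.id F Ω)
    let mS := Algebra.TensorProduct.map Sg (AlgHom.id F Ω)
    let e : S' → E j := fun k => a j (c k) - s j (c k)
    have hd : mA y - mS y = ∑ k : S', e k ⊗ₜ[F] b k := by
      rw [hyeq, map_sum, map_sum, ← Finset.sum_sub_distrib, ← Finset.sum_erase S (a := i0) ?_]
      · rw [← Finset.sum_coe_sort]
        refine Finset.sum_congr rfl fun k _ => ?_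
        exact (TensorProduct.sub_tmul _ _ _).symm
      · simp only [mA, mS, Algebra.TensorProduct.map_tmul, hc0, map_one, sub_self]
    have hdnil : IsNilpotent (∑ k : S', e k ⊗ₜ[F] b k) :=
      hd ▸ Commute.isNilpotent_sub (Commute.all (mA y) (mS y)) (IsNilpotent.map hynil mA) (IsNilpotent.map hynil mS)
    let cb := Algebra.TensorProduct.cancelBaseChange F L L (E j) Ω
    let q := Algebra.TensorProduct.map (AlgHom.id L (E j)) (Ideal.Quotient.mkₐ L (nilradical (L ⊗[F] Ω)))
    have hzero : ∑ k : S', e k ⊗ₜ[L] v k = 0 := by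
      haveI := hgr j Q
      refine IsReduced.eq_zero _ ?_
      have := IsNilpotent.map (IsNilpotent.map hdnil cb.symm) q
      simp only [map_sum, cb, q, Algebra.TensorProduct.cancelBaseChange_symm_tmul,
        Algebra.TensorProduct.map_tmul] at this
      simpa only [v, hbL, AlgHom.coe_id, id_eq, Ideal.Quotient.mkₐ_eq_mk] using this
    have hk : i ∈ S' := Finset.mem_erase.2 ⟨hii, hi⟩
    have h1 := congrArg (TensorProduct.rid L (E j) ∘ LinearMap.lTensor (E j)
      ((Finsupp.lapply (⟨i, hk⟩ : S')) ∘ₗ f)) hzero
    simp only [Function.comp_apply, map_sum, map_zero, LinearMap.lTensor_tmul, LinearMap.comp_apply, hfv,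
      Finsupp.lapply_apply, TensorProduct.rid_tmul, Finsupp.single_apply, ite_smul, one_smul, zero_smul,
      Finset.sum_ite_eq', Finset.mem_univ, if_true] at h1
    exact sub_eq_zero.1 h1
  choose g hg using hcF
  have hy' : y = Algebra.TensorProduct.includeRight (∑ i : S, g i i.2 • b i) := by
    rw [hyeq, ← Finset.sum_coe_sort, map_sum]
    refine Finset.sum_congr rfl fun i _ => ?_
    rw [Algebra.TensorProduct.includeRight_apply, TensorProduct.tmul_smul, TensorProduct.smul_tmul',
      Algebra.smul_def, mul_one, hg]
  have hω : (∑ i : S, g i i.2 • b i) = 0 := by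
    obtain ⟨m, hm⟩ := hynil
    rw [hy', ← map_pow] at hm
    exact IsReduced.eq_zero _ ⟨m, (Algebra.TensorProduct.includeRight_injective
      (algebraMap F L).injective) (hm.trans (map_zero _).symm)⟩
  rw [hω, map_zero] at hy'
  rw [hy, smul_eq_zero] at hy'
  exact hy'.elim (inv_ne_zero (Finsupp.mem_support_iff.1 hi0)) hx

end Groth.L24.QuotGen
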