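import Groth.Agent.L24.QuotGen.Inv
import Groth.Agent.L24.QuotGen.Alg
import Mathlib.AlgebraicGeometry.Fiber

/-!
# The generic fibre of a geometric quotient is geometrically reduced
-/

set_option autoImplicit false
set_option linter.style.haveILetI false
set_option backward.isDefEq.respectTransparency.types false
set_option backward.isDefEq.respectTransparency false

universe u

open CategoryTheory CategoryTheory.Limits MonoidalCategory CartesianMonoidalCategory AlgebraicGeometry TensorProduct
open GIT

noncomputable section

namespace Groth.L24.QuotGen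

variable {S : Scheme.{u}} {G X Y : Over S} [GrpObj G] {a : AlgGrp.Action G X} {π : X ⟶ Y}
variable [Smooth G.hom] [IsIntegral X.left] [IrreducibleSpace Y.left]

theorem isIntegral_target (hπ : IsGeomQuot a π) : IsIntegral Y.left := by
  haveI : ∀ U : Y.left.Opens, _root_.IsReduced Γ(Y.left, U) := fun U =>
    isReduced_of_injective (π.left.app U).hom (hπ.sections U).1
  haveI : IsReduced Y.left := ⟨this⟩
  exact isIntegral_of_irreducibleSpace_of_isReduced Y.left

theorem geometricallyReduced_genericFibre (hπ : IsGeomQuot a π) :
    GeometricallyReduced (π.left.fiberToSpecResidueField (genericPoint Y.left)) := by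
  haveI := isIntegral_target hπ
  set η := genericPoint Y.left
  haveI hres : IsIso (Y.left.residue η) := (ConcreteCategory.isIso_iff_bijective _).2
    ⟨(show (Y.left.functionField : Type u) →+* Y.left.residueField η from (Y.left.residue η).hom).injective,
      Scheme.residue_surjective Y.left η⟩
  let φ : Y.left.residueField η ⟶ X.left.functionField := inv (Y.left.residue η) ≫ gF hπ
  have hφ : Spec.map φ ≫ Y.left.fromSpecResidueField η =
      X.left.fromSpecStalk (genericPoint X.left) ≫ π.left := by
    rw [Scheme.fromSpecResidueField, ← Spec.map_comp_assoc, IsIso.hom_inv_id_assoc, SpecMap_gF]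
  haveI : Flat (Y.left.fromSpecResidueField η) := by
    haveI : Flat (Y.left.fromSpecStalk η) := Groth.L05.Point.flat_fromSpecStalk η
    rw [Scheme.fromSpecResidueField]
    infer_instance
  let Z := π.left.fiber η
  haveI : IsPreimmersion (π.left.fiberι η) := MorphismProperty.pullback_fst _ _ inferInstance
  haveI : Flat (π.left.fiberι η) := MorphismProperty.pullback_fst _ _ ‹Flat (Y.left.fromSpecResidueField η)›
  haveI : IsReduced Z := Groth.L05.ComplConnectedScheme.isReduced_of_flat_preimmersion (π.left.fiberι η)
  let lam : Spec X.left.functionField ⟶ Z :=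
    pullback.lift (X.left.fromSpecStalk (genericPoint X.left)) (Spec.map φ) hφ.symm
  have hlam : lam ≫ π.left.fiberToSpecResidueField η = Spec.map φ := pullback.lift_snd _ _ _
  haveI : Subsingleton ↥(Spec X.left.functionField) :=
    inferInstanceAs (Subsingleton (PrimeSpectrum X.left.functionField))
  haveI : Finite ↥(Spec X.left.functionField) := Finite.of_subsingleton
  haveI : QuasiCompact lam := ⟨fun _ _ _ => (Set.toFinite _).isCompact⟩
  haveI : IsDominant lam := ⟨fun z => by
    rw [(π.left.fiberι η).isEmbedding.closure_eq_preimage_closure_image]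
    refine closure_mono (s := {genericPoint X.left}) (Set.singleton_subset_iff.2 ?_)
      (by rw [genericPoint_spec X.left]; trivial)
    refine ⟨_, ⟨IsLocalRing.closedPoint X.left.functionField, rfl⟩, ?_⟩
    show π.left.fiberι η (lam _) = _
    rw [← Scheme.Hom.comp_apply, Scheme.Hom.fiberι, pullback.lift_fst, Scheme.fromSpecStalk_closedPoint]⟩
  haveI : IsSchemeTheoreticallyDominant lam := .of_isDominant lam
  refine ⟨fun Ω _ y W p q h => ?_⟩
  obtain ⟨ψ, rfl⟩ := Spec.map_surjective y
  letI : Algebra (Y.left.residueField η) X.left.functionField := φ.hom.toAlgebra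
  letI : Algebra (Y.left.residueField η) Ω := ψ.hom.toAlgebra
  haveI : _root_.IsReduced ((X.left.functionField : Type u) ⊗[Y.left.residueField η] Ω) :=
    isReduced_tensor_of_equalizer (J := {z : (G ⊗ X).left // IsGen z})
      (fun z => (G ⊗ X).left.presheaf.stalk z.1)
      (fun z => (ev a.act.left z.2).hom) (fun z => (ev (snd G X).left z.2).hom)
      (fun z f => congrArg (fun m => m.hom (inv (Y.left.residue η) f)) (ev_gF hπ z.2))
      (fun z Q _ _ _ => isReduced_tensor (snd G X).left z.2 Q)
      (fun c hc => by
        obtain ⟨b, hb⟩ := mem_range_gF hπ c fun z hz => hc ⟨z, hz⟩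
        refine ⟨Y.left.residue η b, ?_⟩
        show (Y.left.residue η ≫ inv (Y.left.residue η) ≫ gF hπ).hom b = c
        rw [IsIso.hom_inv_id_assoc]
        exact hb)
  haveI : Flat p := MorphismProperty.of_isPullback h.flip (inferInstanceAs (Flat (Spec.map ψ)))
  have hp : IsPullback (pullback.fst lam p) (pullback.snd lam p ≫ q) (Spec.map φ) (Spec.map ψ) := by
    rw [← hlam]
    exact (IsPullback.of_hasPullback lam p).paste_vert h
  let i : pullback lam p ≅ Spec (CommRingCat.of ((X.left.functionField : Type u) ⊗[Y.left.residueField η] Ω)) :=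
    hp.isoPullback ≪≫ pullbackSpecIso (Y.left.residueField η) X.left.functionField Ω
  haveI : IsReduced (pullback lam p) := isReduced_of_isOpenImmersion i.hom
  exact IsSchemeTheoreticallyDominant.isReduced (pullback.snd lam p)

end Groth.L24.QuotGen
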