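import Groth.Agent.L24.QuotGen.Points
import Groth.Agent.L18.GIT.Quot
import Groth.Agent.L25.Actions

/-!
# Invariant rational functions come from a geometric quotient
-/

set_option autoImplicit false
set_option linter.style.haveILetI false
set_option backward.isDefEq.respectTransparency.types false
set_option backward.isDefEq.respectTransparency false

universe u

open CategoryTheory MonoidalCategory CartesianMonoidalCategory AlgebraicGeometry TopologicalSpace Opposite
open GIT

noncomputable section

namespace Groth.L24.QuotGen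

variable {S : Scheme.{u}} {G X Y : Over S} [GrpObj G] {a : AlgGrp.Action G X} {π : X ⟶ Y}

theorem image_genericPoint {X Y : Scheme.{u}} [IrreducibleSpace X] [IrreducibleSpace Y] (f : X ⟶ Y) (hs : Function.Surjective f.base) :
    f (genericPoint X) = genericPoint Y := by
  have h := (genericPoint_spec X).image f.continuous
  rw [Set.image_univ, Set.range_eq_univ.2 (show Function.Surjective (f : X → Y) from hs), closure_univ] at h
  exact h.eq (genericPoint_spec Y)

/-- The extension of function fields. -/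
def gF [IrreducibleSpace X.left] [IrreducibleSpace Y.left] (hπ : IsGeomQuot a π) :
    Y.left.functionField ⟶ X.left.functionField :=
  Y.left.presheaf.stalkSpecializes (Inseparable.of_eq (image_genericPoint π.left hπ.surj)).specializes ≫
    π.left.stalkMap (genericPoint X.left)

theorem SpecMap_gF [IrreducibleSpace X.left] [IrreducibleSpace Y.left] (hπ : IsGeomQuot a π) :
    Spec.map (gF hπ) ≫ Y.left.fromSpecStalk (genericPoint Y.left) =
      X.left.fromSpecStalk (genericPoint X.left) ≫ π.left := by
  rw [gF, Spec.map_comp, Category.assoc, Scheme.SpecMap_stalkSpecializes_fromSpecStalk,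
    Scheme.SpecMap_stalkMap_fromSpecStalk]

instance smooth_snd [Smooth G.hom] : Smooth (snd G X).left :=
  MorphismProperty.pullback_snd G.hom X.hom ‹Smooth G.hom›

instance smooth_act [Smooth G.hom] : Smooth a.act.left :=
  Groth.L25.Actions.act_of_hom a @Smooth ‹Smooth G.hom›

variable [Smooth G.hom] [IsIntegral X.left] [IrreducibleSpace Y.left]

theorem ev_gF (hπ : IsGeomQuot a π) {z : (G ⊗ X).left} (hz : IsGen z) :
    gF hπ ≫ ev a.act.left hz = gF hπ ≫ ev (snd G X).left hz := by
  apply Spec.map_injective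
  rw [← cancel_mono (Y.left.fromSpecStalk (genericPoint Y.left))]
  simp only [Spec.map_comp, Category.assoc, SpecMap_gF, reassoc_of% (SpecMap_ev a.act.left hz),
    reassoc_of% (SpecMap_ev (snd G X).left hz), hπ.inv.left]

/-- An invariant rational function comes from the quotient. -/
theorem mem_range_gF (hπ : IsGeomQuot a π) (c : X.left.functionField)
    (h : ∀ (z : (G ⊗ X).left) (hz : IsGen z), ev a.act.left hz c = ev (snd G X).left hz c) :
    c ∈ Set.range (gF hπ) := by
  haveI : IsReduced (G ⊗ X).left := Groth.L23.isReduced_of_smooth (snd G X).left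
  let D : Set X.left := {x | c ∈ Set.range (algebraMap (X.left.presheaf.stalk x) X.left.functionField)}
  have hD : ∀ x ∈ D, ∃ (U : X.left.Opens) (hU : x ∈ U) (s : Γ(X.left, U)),
      haveI : Nonempty U := ⟨⟨x, hU⟩⟩
      X.left.germToFunctionField U s = c := by
    rintro x ⟨r, hr⟩
    obtain ⟨U, hU, s, hs⟩ := X.left.presheaf.exists_germ_eq r
    haveI : Nonempty U := ⟨⟨x, hU⟩⟩
    exact ⟨U, hU, s, by rw [← hr, ← hs, Scheme.algebraMap_germ_eq_germToFunctionField]⟩
  have hDopen : IsOpen D := isOpen_iff_forall_mem_open.2 fun x hx => by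
    obtain ⟨U, hU, s, hs⟩ := hD x hx
    haveI : Nonempty U := ⟨⟨x, hU⟩⟩
    refine ⟨U, fun y hy => ⟨X.left.presheaf.germ U y hy s, ?_⟩, U.2, hU⟩
    rw [Scheme.algebraMap_germ_eq_germToFunctionField]
    exact hs
  -- the domain of definition is stable
  have hstab : a.act.left.base '' ((snd G X).left.base ⁻¹' D) ⊆ D := by
    rintro _ ⟨w, ⟨e', he'⟩, rfl⟩
    let A := X.left.presheaf.stalk (a.act.left w)
    obtain ⟨p, q, hq, hpq⟩ := IsFractionRing.div_surjective (A := A) c
    have hq0 : algebraMap A X.left.functionField q ≠ 0 := by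
      simpa using IsFractionRing.to_map_ne_zero_of_mem_nonZeroDivisors (K := X.left.functionField) hq
    have hmul : algebraMap A X.left.functionField q * c = algebraMap A X.left.functionField p := by
      rw [← hpq, mul_div_cancel₀ _ hq0]
    have hzero : a.act.left.stalkMap w q * (snd G X).left.stalkMap w e' - a.act.left.stalkMap w p = 0 := by
      refine eq_zero_of_gen _ fun z hz hzw => ?_
      rw [map_sub, map_mul, ← ev_algebraMap a.act.left hz hzw, ← ev_algebraMap a.act.left hz hzw,
        ← ev_algebraMap (snd G X).left hz hzw, he', ← h z hz, ← map_mul, hmul, sub_self]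
    letI := (a.act.left.stalkMap w).hom.toAlgebra
    haveI : Module.Flat A ((G ⊗ X).left.presheaf.stalk w) := Flat.stalkMap a.act.left w
    haveI : IsLocalHom (algebraMap A ((G ⊗ X).left.presheaf.stalk w)) :=
      inferInstanceAs (IsLocalHom (a.act.left.stalkMap w).hom)
    haveI : Module.FaithfullyFlat A ((G ⊗ X).left.presheaf.stalk w) :=
      Module.FaithfullyFlat.of_flat_of_isLocalHom
    have hp : p ∈ ((Ideal.span {q}).map (algebraMap A ((G ⊗ X).left.presheaf.stalk w))).comap
        (algebraMap A ((G ⊗ X).left.presheaf.stalk w)) := by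
      rw [Ideal.mem_comap, Ideal.map_span, Set.image_singleton, Ideal.mem_span_singleton]
      exact ⟨(snd G X).left.stalkMap w e', (sub_eq_zero.1 hzero).symm⟩
    rw [Ideal.comap_map_eq_self_of_faithfullyFlat, Ideal.mem_span_singleton] at hp
    obtain ⟨r, rfl⟩ := hp
    refine ⟨r, mul_left_cancel₀ hq0 ?_⟩
    rw [hmul, map_mul]
  have hpre : π.left.base ⁻¹' (π.left.base '' D) = D :=
    Groth.L18.GITQ.preimage_image_of_orbit a π hπ.inv hπ.orbit hstab
  have hqm : Topology.IsQuotientMap π.left.base := MorphismProperty.universally_le _ _ hπ.subm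
  let O : Y.left.Opens := ⟨π.left.base '' D, hqm.isOpen_preimage.1 (hpre.symm ▸ hDopen)⟩
  let V := π.left ⁻¹ᵁ O
  have hVD : ∀ x ∈ V, x ∈ D := fun x hx => hpre.subset hx
  have hξD : genericPoint X.left ∈ D := ⟨c, by rw [algebraMap_stalk, TopCat.Presheaf.stalkSpecializes_refl]; rfl⟩
  have hξV : genericPoint X.left ∈ V := hpre.symm.subset hξD
  haveI : Nonempty V := ⟨⟨_, hξV⟩⟩
  choose U hU s hs using fun x : V => hD x.1 (hVD x.1 x.2)
  let U' : V → X.left.Opens := fun x => U x ⊓ V
  haveI hne : ∀ x : V, Nonempty (U' x) := fun x => ⟨⟨x.1, hU x, x.2⟩⟩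
  let s' : ∀ x : V, Γ(X.left, U' x) := fun x => X.left.presheaf.map (homOfLE inf_le_left).op (s x)
  have hs' : ∀ x, X.left.germToFunctionField (U' x) (s' x) = c := fun x => by
    haveI : Nonempty (U x) := ⟨⟨x.1, hU x⟩⟩
    refine Eq.trans ?_ (hs x)
    exact X.left.presheaf.germ_res_apply _ _ _ _
  obtain ⟨σ, hσ, -⟩ := TopCat.Sheaf.existsUnique_gluing' X.left.sheaf U' V (fun x => homOfLE inf_le_right)
    (fun x hx => Opens.mem_iSup.2 ⟨⟨x, hx⟩, hU ⟨x, hx⟩, hx⟩) s' (fun x y => by
      haveI : Nonempty (U' x ⊓ U' y : X.left.Opens) :=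
        ⟨⟨genericPoint X.left, ((genericPoint_spec X.left).mem_open_set_iff (U' x).2).2 ⟨x.1, Set.mem_univ _, hU x, x.2⟩,
          ((genericPoint_spec X.left).mem_open_set_iff (U' y).2).2 ⟨y.1, Set.mem_univ _, hU y, y.2⟩⟩⟩
      apply X.left.germToFunctionField_injective (U' x ⊓ U' y)
      exact ((X.left.presheaf.germ_res_apply _ _ _ _).trans (hs' x)).trans
        ((X.left.presheaf.germ_res_apply _ _ _ _).trans (hs' y)).symm)
  have hσc : X.left.germToFunctionField V σ = c := by
    refine Eq.trans ?_ (hs' ⟨_, hξV⟩)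
    rw [← hσ ⟨_, hξV⟩]
    exact (X.left.presheaf.germ_res_apply _ _ _ _).symm
  have hinv : IsInvSection a π O σ := by
    refine TopCat.Presheaf.section_ext (G ⊗ X).left.sheaf _ _ _ fun w hw => ?_
    refine sub_eq_zero.1 (eq_zero_of_gen _ fun z hz hzw => ?_)
    have key : ∀ (f : (G ⊗ X).left ⟶ X.left) (W : (G ⊗ X).left.Opens) (hW : W ≤ f ⁻¹ᵁ V) (hwW : w ∈ W),
        (G ⊗ X).left.presheaf.germ W w hwW (f.appLE V W hW σ) =
          f.stalkMap w (X.left.presheaf.germ V (f w) (hW hwW) σ) := fun f W hW hwW => by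
      rw [Scheme.Hom.germ_stalkMap_apply]
      exact (G ⊗ X).left.presheaf.germ_res_apply _ _ _ _
    rw [map_sub, sub_eq_zero]
    refine (congrArg _ (key _ _ _ hw)).trans (Eq.trans ?_ (congrArg _ (key _ _ _ hw)).symm)
    rw [← ev_algebraMap a.act.left hz hzw, ← ev_algebraMap (snd G X).left hz hzw,
      Scheme.algebraMap_germ_eq_germToFunctionField, Scheme.algebraMap_germ_eq_germToFunctionField, hσc]
    exact h z hz
  obtain ⟨b, hb⟩ := (hπ.sections O).2.symm.subset hinv
  have hηO : π.left (genericPoint X.left) ∈ O := hξV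
  have hηO' : genericPoint Y.left ∈ O := (image_genericPoint π.left hπ.surj) ▸ hηO
  refine ⟨Y.left.presheaf.germ O (genericPoint Y.left) hηO' b, ?_⟩
  refine Eq.trans ?_ hσc
  rw [← hb]
  show π.left.stalkMap (genericPoint X.left)
    (Y.left.presheaf.stalkSpecializes _ (Y.left.presheaf.germ O (genericPoint Y.left) hηO' b)) = _
  rw [← CommRingCat.comp_apply (Y.left.presheaf.germ O _ hηO'), TopCat.Presheaf.germ_stalkSpecializes,
    Scheme.Hom.germ_stalkMap_apply]

end Groth.L24.QuotGen
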