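import Groth.Agent.L05.ComplConnectedScheme.Main
import Groth.Agent.L23.SourceRegular
import Mathlib.AlgebraicGeometry.Morphisms.Flat
import Mathlib.AlgebraicGeometry.FunctionField
import Mathlib.AlgebraicGeometry.Pullbacks

/-!
# Evaluation of rational functions at generic points
-/

set_option autoImplicit false
set_option linter.style.haveILetI false
set_option backward.isDefEq.respectTransparency.types false
set_option backward.isDefEq.respectTransparency false

universe u

open CategoryTheory CategoryTheory.Limits AlgebraicGeometry TopologicalSpace TensorProduct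

noncomputable section

namespace Groth.L24.QuotGen

variable {P X Y : Scheme.{u}}

/-- No proper generalization. -/
def IsGen (z : P) : Prop := ∀ z', z' ⤳ z → z' = z

theorem isGen_image [IrreducibleSpace X] (f : P ⟶ X) [Flat f] {z : P} (hz : IsGen z) :
    f z = genericPoint X := by
  obtain ⟨z', h1, h2⟩ := Flat.generalizingMap f ((genericPoint_spec X).specializes (Set.mem_univ (f z)))
  rw [hz z' h1] at h2
  exact h2

theorem isField_stalk [IsReduced P] {z : P} (hz : IsGen z) : IsField (P.presheaf.stalk z) := by
  refine isField_stalk_of_closure_mem_irreducibleComponents P z ?_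
  have hC := irreducibleComponent_mem_irreducibleComponents z
  have hirr := (isIrreducible_irreducibleComponent (x := z))
  have hclosed := isClosed_irreducibleComponent (x := z)
  obtain ⟨g, hg⟩ := QuasiSober.sober hirr hclosed
  have : g = z := hz g (hg.specializes mem_irreducibleComponent)
  rw [this] at hg
  rw [hg.def]
  exact hC

/-- A local function vanishing at the generic points of a reduced scheme vanishes. -/
theorem eq_zero_of_gen [IsReduced P] {w : P} (r : P.presheaf.stalk w)
    (h : ∀ (z : P), IsGen z → ∀ (hzw : z ⤳ w), P.presheaf.stalkSpecializes hzw r = 0) : r = 0 := by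
  refine IsReduced.eq_zero r (mem_nilradical.1 ?_)
  rw [nilradical_eq_sInf, Ideal.mem_sInf]
  intro p (hp : p.IsPrime)
  obtain ⟨q, hqmin, hqp⟩ := Ideal.exists_minimalPrimes_le (I := (⊥ : Ideal (P.presheaf.stalk w))) (J := p) bot_le
  refine hqp ?_
  haveI : q.IsPrime := hqmin.1.1
  let Q : Spec (P.presheaf.stalk w) := ⟨q, inferInstance⟩
  let z := P.fromSpecStalk w Q
  have hzw : z ⤳ w := (Scheme.range_fromSpecStalk.subset ⟨Q, rfl⟩ : _)
  have hz : IsGen z := fun z' hz' => by
    obtain ⟨Q', hQ'⟩ := Scheme.range_fromSpecStalk.superset (hz'.trans hzw : z' ∈ {y | y ⤳ w})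
    have hs : Q' ⤳ Q := (P.fromSpecStalk w).isEmbedding.isInducing.specializes_iff.1 (by rw [hQ']; exact hz')
    have hle : Q'.asIdeal ≤ q := (PrimeSpectrum.le_iff_specializes Q' Q).2 hs
    have heq : Q' = Q := PrimeSpectrum.ext (le_antisymm hle (hqmin.2 ⟨Q'.isPrime, bot_le⟩ hle))
    rw [← hQ', heq]
  have hQ : Spec.map (P.presheaf.stalkSpecializes hzw) (IsLocalRing.closedPoint (P.presheaf.stalk z)) = Q := by
    apply (P.fromSpecStalk w).isEmbedding.injective
    rw [← Scheme.Hom.comp_apply, Scheme.SpecMap_stalkSpecializes_fromSpecStalk, Scheme.fromSpecStalk_closedPoint]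
  have := congrArg (fun t : Spec (P.presheaf.stalk w) => r ∈ t.asIdeal) hQ
  refine this.mp ?_
  show P.presheaf.stalkSpecializes hzw r ∈ IsLocalRing.maximalIdeal (P.presheaf.stalk z)
  rw [h z hz hzw]
  exact Ideal.zero_mem _

/-- Pullback of rational functions to a generic point. -/
def ev [IrreducibleSpace X] (f : P ⟶ X) [Flat f] {z : P} (hz : IsGen z) :
    X.functionField ⟶ P.presheaf.stalk z :=
  X.presheaf.stalkSpecializes (Inseparable.of_eq (isGen_image f hz)).specializes ≫ f.stalkMap z

theorem algebraMap_stalk [IrreducibleSpace X] (x : X) :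
    algebraMap (X.presheaf.stalk x) X.functionField =
      (X.presheaf.stalkSpecializes ((genericPoint_spec X).specializes (Set.mem_univ x))).hom := rfl

theorem ev_algebraMap [IrreducibleSpace X] (f : P ⟶ X) [Flat f] {z w : P} (hz : IsGen z) (hzw : z ⤳ w)
    (r : X.presheaf.stalk (f w)) :
    ev f hz (algebraMap (X.presheaf.stalk (f w)) X.functionField r) =
      P.presheaf.stalkSpecializes hzw (f.stalkMap w r) := by
  rw [algebraMap_stalk]
  show (X.presheaf.stalkSpecializes _ ≫ ev f hz).hom r = (f.stalkMap w ≫ P.presheaf.stalkSpecializes hzw).hom r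
  congr 2
  rw [ev, TopCat.Presheaf.stalkSpecializes_comp_assoc]
  exact Scheme.Hom.stalkSpecializes_stalkMap f z w hzw

theorem SpecMap_ev [IrreducibleSpace X] (f : P ⟶ X) [Flat f] {z : P} (hz : IsGen z) :
    Spec.map (ev f hz) ≫ X.fromSpecStalk (genericPoint X) = P.fromSpecStalk z ≫ f := by
  rw [ev, Spec.map_comp, Category.assoc, Scheme.SpecMap_stalkSpecializes_fromSpecStalk,
    Scheme.SpecMap_stalkMap_fromSpecStalk]

/-- Generic points of a smooth scheme give geometrically reduced extensions. -/
theorem isReduced_tensor [IrreducibleSpace X] (f : P ⟶ X) [Smooth f] {z : P} (hz : IsGen z) (Q : Type u)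
    [CommRing Q] [_root_.IsReduced Q] [Algebra X.functionField Q] :
    letI := (ev f hz).hom.toAlgebra
    _root_.IsReduced ((P.presheaf.stalk z : Type u) ⊗[X.functionField] Q) := by
  letI := (ev f hz).hom.toAlgebra
  let L : Type u := X.functionField
  let m : Spec (CommRingCat.of Q) ⟶ Spec X.functionField := Spec.map (CommRingCat.ofHom (algebraMap X.functionField Q))
  let q : Spec (CommRingCat.of Q) ⟶ X := m ≫ X.fromSpecStalk (genericPoint X)
  haveI : AlgebraicGeometry.IsReduced (pullback f q) := Groth.L23.isReduced_of_smooth (pullback.snd f q)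
  haveI : Flat (P.fromSpecStalk z) := Groth.L05.Point.flat_fromSpecStalk z
  let W := pullback (P.fromSpecStalk z) (pullback.fst f q)
  haveI : AlgebraicGeometry.IsReduced W :=
    Groth.L05.ComplConnectedScheme.isReduced_of_flat_preimmersion (pullback.snd (P.fromSpecStalk z) (pullback.fst f q))
  have h : IsPullback (pullback.fst (P.fromSpecStalk z) (pullback.fst f q))
      (pullback.snd (P.fromSpecStalk z) (pullback.fst f q) ≫ pullback.snd f q)
      (Spec.map (ev f hz) ≫ X.fromSpecStalk (genericPoint X)) (m ≫ X.fromSpecStalk (genericPoint X)) := by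
    rw [SpecMap_ev]
    exact (IsPullback.of_hasPullback _ _).paste_vert (IsPullback.of_hasPullback f q)
  have h2 := IsPullback.of_hasPullback (Spec.map (ev f hz)) m
  have h1 := IsPullback.of_isLimit (PullbackCone.isLimitOfCompMono (Spec.map (ev f hz)) m
    (X.fromSpecStalk (genericPoint X)) h2.cone h2.isLimit)
  let i : W ≅ Spec (CommRingCat.of ((P.presheaf.stalk z : Type u) ⊗[L] Q)) :=
    h.isoPullback ≪≫ h1.isoPullback.symm ≪≫ pullbackSpecIso L (P.presheaf.stalk z) Q
  haveI : AlgebraicGeometry.IsReduced (Spec (CommRingCat.of ((P.presheaf.stalk z : Type u) ⊗[L] Q))) :=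
    isReduced_of_isOpenImmersion i.inv
  exact (affine_isReduced_iff (CommRingCat.of ((P.presheaf.stalk z : Type u) ⊗[L] Q))).1 inferInstance

end Groth.L24.QuotGen
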