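import Groth.Prelude.Def_W4bk4git07Quot
import Groth.Agent.L25.Actions
import Mathlib.AlgebraicGeometry.AlgClosed.Basic
import Mathlib.AlgebraicGeometry.Morphisms.Smooth
import Mathlib.AlgebraicGeometry.Morphisms.FiniteType

/-!
# Reduced geometric fibres of a quotient are homogeneous, hence smooth
-/

set_option autoImplicit false
set_option linter.style.haveILetI false
set_option backward.isDefEq.respectTransparency.types false
set_option backward.isDefEq.respectTransparency false

universe u

open CategoryTheory CategoryTheory.Limits MonoidalCategory CartesianMonoidalCategory AlgebraicGeometry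
open scoped MonObj

noncomputable section

namespace Groth.L24.QuotGen

variable {S : Scheme.{u}} {G X Y : Over S} [GrpObj G]

theorem smooth_geometricFibre (a : AlgGrp.Action G X) (π : X ⟶ Y) (hi : GIT.IsInvariant a π)
    (ho : Function.Surjective (GIT.PsiY a π hi).base) [LocallyOfFiniteType G.hom] [LocallyOfFiniteType X.hom]
    {Ω : Type u} [Field Ω] [IsAlgClosed Ω] (t : Spec (CommRingCat.of Ω) ⟶ Y.left)
    [IsReduced (pullback π.left t)] : Smooth (pullback.snd π.left t) := by
  haveI : LocallyOfFiniteType π.left := by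
    haveI : LocallyOfFiniteType (π.left ≫ Y.hom) := by rw [Over.w]; infer_instance
    exact locallyOfFiniteType_of_comp π.left Y.hom
  set f := pullback.snd π.left t
  haveI : LocallyOfFiniteType f := inferInstance
  haveI : LocallyOfFinitePresentation f := inferInstance
  haveI := LocallyOfFiniteType.jacobsonSpace f
  let T : Over S := Over.mk (t ≫ Y.hom)
  let Z : Over S := Over.mk (f ≫ t ≫ Y.hom)
  let p : Z ⟶ X := Over.homMk (pullback.fst π.left t) (by
    show _ = f ≫ t ≫ Y.hom
    rw [← Over.w π, pullback.condition_assoc])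
  let q : Z ⟶ T := Over.homMk f rfl
  let t' : T ⟶ Y := Over.homMk t rfl
  have hpq : p ≫ π = q ≫ t' := Over.OverMorphism.ext pullback.condition
  have zext : ∀ {W : Over S} (u v : W ⟶ Z), u ≫ p = v ≫ p → u ≫ q = v ≫ q → u = v := fun u v h1 h2 =>
    Over.OverMorphism.ext (pullback.hom_ext (congrArg CommaMorphism.left h1) (congrArg CommaMorphism.left h2))
  have hm : ∀ g : T ⟶ G, (lift (q ≫ g) p ≫ a.act) ≫ π = q ≫ t' := fun g => by
    rw [Category.assoc, show a.act ≫ π = snd G X ≫ π from hi, lift_snd_assoc, hpq]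
  let α : (T ⟶ G) → (Z ⟶ Z) := fun g => Over.homMk (pullback.lift (lift (q ≫ g) p ≫ a.act).left f
    (congrArg CommaMorphism.left (hm g))) (by
      show pullback.lift _ f _ ≫ f ≫ t ≫ Y.hom = f ≫ t ≫ Y.hom
      rw [pullback.lift_snd_assoc])
  have αp : ∀ g, α g ≫ p = lift (q ≫ g) p ≫ a.act := fun g => Over.OverMorphism.ext (pullback.lift_fst _ _ _)
  have αq : ∀ g, α g ≫ q = q := fun g => Over.OverMorphism.ext (pullback.lift_snd _ _ _)
  have αinv : ∀ g, α g ≫ α g⁻¹ = 𝟙 Z := fun g => zext _ _
    (by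
      rw [Category.assoc, αp, comp_lift_assoc, reassoc_of% αq, αp, GrpObj.comp_inv, Category.id_comp]
      exact Groth.L25.Actions.inv_act a _ _)
    (by rw [Category.assoc, αq, αq, Category.id_comp])
  haveI : ∀ g, IsIso (α g).left := fun g => by
    haveI : IsIso (α g) := ⟨α g⁻¹, αinv g, by simpa using αinv g⁻¹⟩
    exact inferInstanceAs (IsIso ((Over.forget S).map (α g)))
  rw [← Scheme.Hom.smoothLocus_eq_top_iff, ← TopologicalSpace.Opens.coe_eq_univ, ← not_ne_iff,
    ← Set.nonempty_compl]
  intro H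
  haveI : Nonempty ↥(pullback π.left t) := H.nonempty
  obtain ⟨x, hx, hxc⟩ := nonempty_inter_closedPoints H f.smoothLocus.2.isClosed_compl.isLocallyClosed
  obtain ⟨y, hy, hyc⟩ := nonempty_inter_closedPoints
    f.dense_smoothLocus_of_perfectField.nonempty f.smoothLocus.2.isLocallyClosed
  have pt : ∀ z : ↥(pullback π.left t), IsClosed ({z} : Set ↥(pullback π.left t)) →
      ∃ u : T ⟶ Z, u ≫ q = 𝟙 T ∧ u.left (IsLocalRing.closedPoint Ω) = z := fun z hz =>
    ⟨Over.homMk (pointOfClosedPoint f z hz) (by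
        show pointOfClosedPoint f z hz ≫ f ≫ t ≫ Y.hom = t ≫ Y.hom
        rw [pointOfClosedPoint_comp_assoc]),
      Over.OverMorphism.ext (pointOfClosedPoint_comp f z hz), pointOfClosedPoint_apply f z hz _⟩
  obtain ⟨u, huq, hux⟩ := pt x hxc
  obtain ⟨v, hvq, hvy⟩ := pt y hyc
  have huv : (v ≫ p).left ≫ π.left = (u ≫ p).left ≫ π.left := by
    rw [← Over.comp_left, ← Over.comp_left]
    refine congrArg CommaMorphism.left ?_
    rw [Category.assoc, Category.assoc, hpq, reassoc_of% hvq, reassoc_of% huq]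
  let c : Spec (CommRingCat.of Ω) ⟶ pullback π.left π.left := pullback.lift (v ≫ p).left (u ≫ p).left huv
  let Ψ := GIT.PsiY a π hi
  haveI : LocallyOfFiniteType (G ⊗ X).hom := by
    haveI : LocallyOfFiniteType (snd G X).left := MorphismProperty.pullback_snd G.hom X.hom ‹LocallyOfFiniteType G.hom›
    rw [← Over.w (snd G X)]
    infer_instance
  haveI : LocallyOfFiniteType Ψ := by
    haveI : LocallyOfFiniteType (Ψ ≫ pullback.fst π.left π.left ≫ X.hom) := by
      rw [show Ψ ≫ pullback.fst π.left π.left ≫ X.hom = (G ⊗ X).hom by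
        rw [← Over.w a.act]; exact pullback.lift_fst_assoc _ _ _ _]
      infer_instance
    exact locallyOfFiniteType_of_comp Ψ (pullback.fst π.left π.left ≫ X.hom)
  haveI : Surjective Ψ := ⟨ho⟩
  haveI : Surjective (pullback.fst c Ψ) := MorphismProperty.pullback_fst c Ψ ‹Surjective Ψ›
  obtain ⟨e0, -⟩ := (pullback.fst c Ψ).surjective (IsLocalRing.closedPoint Ω)
  haveI := LocallyOfFiniteType.jacobsonSpace (pullback.fst c Ψ)
  obtain ⟨e, -, hec⟩ := nonempty_inter_closedPoints (Z := (Set.univ : Set ↥(pullback c Ψ))) ⟨e0, trivial⟩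
    isClosed_univ.isLocallyClosed
  let w := pointOfClosedPoint (pullback.fst c Ψ) e hec ≫ pullback.snd c Ψ
  have hw : w ≫ Ψ = c := by
    rw [Category.assoc, ← pullback.condition, pointOfClosedPoint_comp_assoc]
  have hw1 : w ≫ a.act.left = (v ≫ p).left := by
    rw [← pullback.lift_fst (v ≫ p).left (u ≫ p).left huv]
    show _ = c ≫ _
    rw [← hw, Category.assoc]
    exact congrArg (w ≫ ·) (pullback.lift_fst _ _ _).symm
  have hw2 : w ≫ (snd G X).left = (u ≫ p).left := by
    rw [← pullback.lift_snd (v ≫ p).left (u ≫ p).left huv]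
    show _ = c ≫ _
    rw [← hw, Category.assoc]
    exact congrArg (w ≫ ·) (pullback.lift_snd _ _ _).symm
  let w' : T ⟶ G ⊗ X := Over.homMk w (by
    rw [← Over.w (snd G X), reassoc_of% hw2, Over.w (u ≫ p)])
  have hαu : u ≫ α (w' ≫ fst G X) = v := zext _ _
    (by
      rw [Category.assoc, αp, comp_lift_assoc, reassoc_of% huq,
        show u ≫ p = w' ≫ snd G X from Over.OverMorphism.ext hw2.symm,
        show lift (w' ≫ fst G X) (w' ≫ snd G X) = w' by rw [← comp_lift, lift_fst_snd, Category.comp_id]]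
      exact Over.OverMorphism.ext hw1)
    (by rw [Category.assoc, αq, huq, hvq])
  have hxy : (α (w' ≫ fst G X)).left x = y := by
    rw [← hux, ← hvy, ← Scheme.Hom.comp_apply, ← Over.comp_left, hαu]
  rw [← hxy] at hy
  have hy' : x ∈ (α (w' ≫ fst G X)).left ⁻¹ᵁ f.smoothLocus := hy
  rw! [Scheme.Hom.preimage_smoothLocus_eq, show (α (w' ≫ fst G X)).left ≫ f = f from
    congrArg CommaMorphism.left (αq _)] at hy'
  exact hx hy'

end Groth.L24.QuotGen
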